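import Groth.Prelude.Def_FSch3
import Mathlib.RingTheory.AdicCompletion.Algebra

/-!
Units of adic completions; the stalk ring of a formal spectrum is local.
-/

set_option autoImplicit false

universe u

namespace Groth.Agent.FSchLib

theorem isUnit_of_isUnit_evalOne {R : Type u} [CommRing R] (I : Ideal R) (x : AdicCompletion I R)
    (h : IsUnit (AdicCompletion.evalOneₐ I x)) : IsUnit x := by
  obtain ⟨c, rfl⟩ := AdicCompletion.mk_surjective I R x
  have hu : ∀ n, IsUnit (Ideal.Quotient.mk (I ^ n) (c n)) := by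
    intro n
    rcases Nat.eq_zero_or_pos n with rfl | hn
    · haveI : Subsingleton (R ⧸ I ^ 0) := Ideal.Quotient.subsingleton_iff.2 (by simp)
      exact isUnit_of_subsingleton _
    obtain ⟨b, hb⟩ := h.exists_right_inv
    obtain ⟨b, rfl⟩ := Ideal.Quotient.mk_surjective b
    have h1 : c n - c 1 ∈ I := by
      have hy := c.2 (show 1 ≤ n from hn)
      rw [SModEq.sub_mem] at hy
      simp only [smul_eq_mul, Ideal.mul_top, pow_one] at hy
      rw [← neg_sub]
      exact I.neg_mem hy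
    have h2 : c 1 * b - 1 ∈ I := by
      rw [← Ideal.Quotient.eq, map_mul, map_one, ← hb]
      congr 1
    have h3 : c n * b - 1 ∈ I := by
      have := I.add_mem (I.mul_mem_right b h1) h2
      convert this using 1
      ring
    have h4 : IsNilpotent (Ideal.Quotient.mk (I ^ n) (c n * b - 1)) :=
      ⟨n, by rw [← map_pow, Ideal.Quotient.eq_zero_iff_mem]; exact Ideal.pow_mem_pow h3 n⟩
    have h5 := h4.isUnit_one_add
    rw [← map_one (Ideal.Quotient.mk (I ^ n)), ← map_add, add_sub_cancel, map_mul] at h5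
    exact isUnit_of_mul_isUnit_left h5
  choose y hy using fun n => (hu n).exists_right_inv
  choose z hz using fun n => Ideal.Quotient.mk_surjective (y n)
  have hcauchy : ∀ {m n : ℕ}, m ≤ n → z m ≡ z n [SMOD (I ^ m • ⊤ : Submodule R R)] := fun {m n} hmn => by
    rw [SModEq.sub_mem]
    simp only [smul_eq_mul, Ideal.mul_top]
    have hc := c.2 hmn
    rw [SModEq.sub_mem] at hc
    simp only [smul_eq_mul, Ideal.mul_top] at hc
    rw [← Ideal.Quotient.eq] at hc ⊢
    have e1 : Ideal.Quotient.mk (I ^ m) (c m) * Ideal.Quotient.mk (I ^ m) (z m) = 1 := by rw [hz, hy]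
    have e2 : Ideal.Quotient.mk (I ^ m) (c m) * Ideal.Quotient.mk (I ^ m) (z n) = 1 := by
      have := congrArg (Ideal.Quotient.factor (Ideal.pow_le_pow_right hmn : I ^ n ≤ I ^ m))
        ((show Ideal.Quotient.mk (I ^ n) (c n) * Ideal.Quotient.mk (I ^ n) (z n) = 1 by rw [hz, hy]))
      rw [map_mul, map_one, Ideal.Quotient.factor_mk, Ideal.Quotient.factor_mk] at this
      rw [hc]
      exact this
    exact (hu m).mul_left_cancel (e1.trans e2.symm)
  refine IsUnit.of_mul_eq_one (AdicCompletion.mk I R ⟨z, hcauchy⟩) (AdicCompletion.ext_evalₐ fun n => ?_)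
  rw [map_mul, map_one, AdicCompletion.evalₐ_mk, AdicCompletion.evalₐ_mk]
  rw [← hy n, ← hz n]

theorem evalₐ_complMap {S T : Type u} [CommRing S] [CommRing T] (I : Ideal S) (K : Ideal T) (g : S →+* T)
    (h : I.map g ≤ K) (n : ℕ) (x : AdicCompletion I S) :
    AdicCompletion.evalₐ K n (FSch.complMap I K g h x) =
      Ideal.quotientMap (K ^ n) g (FSch.pow_le_comap_pow_of_map_le I K g h n) (AdicCompletion.evalₐ I n x) := by
  unfold FSch.complMap
  rw [AdicCompletion.evalₐ_liftRingHom]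
  · rfl
  · intro m n hle
    apply RingHom.ext
    intro x
    obtain ⟨y, rfl⟩ := AdicCompletion.mk_surjective I S x
    simp only [RingHom.coe_comp, Function.comp_apply, AlgHom.toRingHom_eq_coe, AlgHom.coe_toRingHom,
      AdicCompletion.evalₐ_mk, Ideal.quotientMap_mk, Ideal.Quotient.factorPow, Ideal.Quotient.factor_mk]
    rw [Ideal.Quotient.eq]
    have hy := y.2 hle
    rw [SModEq.sub_mem] at hy
    simp only [smul_eq_mul, Ideal.mul_top] at hy
    rw [← map_sub]
    have hy' : (y : ℕ → S) n - (y : ℕ → S) m ∈ I ^ m := by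
      rw [← neg_sub]; exact (I ^ m).neg_mem hy
    exact FSch.pow_le_comap_pow_of_map_le I K g h m hy'

theorem evalOne_eq {R : Type u} [CommRing R] (I : Ideal R) (x : AdicCompletion I R) :
    AdicCompletion.evalOneₐ I x = Ideal.Quotient.factor (by simp) (AdicCompletion.evalₐ I 1 x) := rfl

variable (A : Type u) [CommRing A] (J : Ideal A) (𝔭 : Ideal A) [𝔭.IsPrime]

theorem isUnit_evalOne_iff_atPrime (hJ : J ≤ 𝔭) (x : FSch.cAtPrime A J 𝔭) :
    IsUnit x ↔ ∀ u, Ideal.Quotient.mk _ u = AdicCompletion.evalOneₐ _ x → IsUnit (u : Localization.AtPrime 𝔭) := by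
  refine ⟨fun hx u hu => ?_, fun h => isUnit_of_isUnit_evalOne _ _ ?_⟩
  · have h1 : IsUnit (Ideal.Quotient.mk (J.map (algebraMap A (Localization.AtPrime 𝔭))) u) :=
      hu ▸ hx.map (AdicCompletion.evalOneₐ (J.map (algebraMap A (Localization.AtPrime 𝔭))))
    by_contra hnu
    obtain ⟨b, hb⟩ := h1.exists_right_inv
    obtain ⟨b, rfl⟩ := Ideal.Quotient.mk_surjective b
    rw [← map_mul, ← map_one (Ideal.Quotient.mk _), Ideal.Quotient.eq] at hb
    have hle : J.map (algebraMap A (Localization.AtPrime 𝔭)) ≤ IsLocalRing.maximalIdeal _ := by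
      rw [← Localization.AtPrime.map_eq_maximalIdeal]
      exact Ideal.map_mono hJ
    have hub : u * b ∈ IsLocalRing.maximalIdeal (Localization.AtPrime 𝔭) :=
      Ideal.mul_mem_right _ _ ((IsLocalRing.mem_maximalIdeal _).2 hnu)
    have h2 := Ideal.sub_mem _ hub (hle hb)
    rw [sub_sub_cancel] at h2
    exact (IsLocalRing.maximalIdeal (Localization.AtPrime 𝔭)).ne_top_iff_one.1
      (IsLocalRing.maximalIdeal.isMaximal _).ne_top h2
  · obtain ⟨u, hu⟩ := Ideal.Quotient.mk_surjective (AdicCompletion.evalOneₐ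
      (J.map (algebraMap A (Localization.AtPrime 𝔭))) x)
    rw [← hu]
    exact (h u hu).map _

theorem isLocalRing_cAtPrime (hJ : J ≤ 𝔭) : IsLocalRing (FSch.cAtPrime A J 𝔭) := by
  have h0 : ∀ u : Localization.AtPrime 𝔭, ¬ IsUnit u → ∀ x : FSch.cAtPrime A J 𝔭,
      Ideal.Quotient.mk _ u = AdicCompletion.evalOneₐ _ x → ¬ IsUnit x :=
    fun u hu x hx hxu => hu ((isUnit_evalOne_iff_atPrime A J 𝔭 hJ x).1 hxu u hx)
  haveI : Nontrivial (FSch.cAtPrime A J 𝔭) := by
    refine ⟨⟨0, 1, fun h => h0 0 not_isUnit_zero 0 (by rw [map_zero, map_zero]) (h ▸ isUnit_one)⟩⟩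
  refine IsLocalRing.of_nonunits_add fun x y hx hy hxy => ?_
  obtain ⟨u, hu⟩ := Ideal.Quotient.mk_surjective (AdicCompletion.evalOneₐ (J.map (algebraMap A (Localization.AtPrime 𝔭))) x)
  obtain ⟨v, hv⟩ := Ideal.Quotient.mk_surjective (AdicCompletion.evalOneₐ (J.map (algebraMap A (Localization.AtPrime 𝔭))) y)
  have huv : IsUnit (u + v) := (isUnit_evalOne_iff_atPrime A J 𝔭 hJ _).1 hxy _ (by rw [map_add, map_add, hu, hv])
  have hnu : ¬ IsUnit u := fun h => hx (isUnit_of_isUnit_evalOne _ _ (hu ▸ h.map _))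
  have hnv : ¬ IsUnit v := fun h => hy (isUnit_of_isUnit_evalOne _ _ (hv ▸ h.map _))
  exact IsLocalRing.nonunits_add hnu hnv huv

theorem lift_comp (f g : A) (hf : f ∉ 𝔭) (hfg : f * g ∉ 𝔭) :
    (FSch.awayToAtPrime A 𝔭 (f * g) hfg).comp (IsLocalization.Away.awayToAwayRight f g) =
      FSch.awayToAtPrime A 𝔭 f hf := by
  refine IsLocalization.ringHom_ext (Submonoid.powers f) (RingHom.ext fun a => ?_)
  simp [FSch.awayToAtPrime, IsLocalization.Away.awayToAwayRight_eq]

theorem exists_right (f g : A) (hf : f ∉ 𝔭) (hfg : f * g ∉ 𝔭) (x : FSch.cAway A J f) :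
    ∃ x' : FSch.cAway A J (f * g), FSch.cAwayToAtPrime A J 𝔭 (f * g) hfg x' = FSch.cAwayToAtPrime A J 𝔭 f hf x ∧
      AdicCompletion.evalOneₐ _ x' = Ideal.quotientMap _ (IsLocalization.Away.awayToAwayRight f g)
        (Ideal.map_le_iff_le_comap.1 (le_of_eq (by
          rw [Ideal.map_map]; congr 1; ext a; simp [IsLocalization.Away.awayToAwayRight_eq])))
        (AdicCompletion.evalOneₐ _ x) := by
  have hle : (J.map (algebraMap A (Localization.Away f))).map (IsLocalization.Away.awayToAwayRight f g) ≤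
      J.map (algebraMap A (Localization.Away (f * g))) := le_of_eq (by
    rw [Ideal.map_map]; congr 1; ext a; simp [IsLocalization.Away.awayToAwayRight_eq])
  refine ⟨FSch.complMap _ _ _ hle x, AdicCompletion.ext_evalₐ fun n => ?_, ?_⟩
  · simp only [FSch.cAwayToAtPrime, evalₐ_complMap]
    obtain ⟨b, hb⟩ := Ideal.Quotient.mk_surjective
      (AdicCompletion.evalₐ (J.map (algebraMap A (Localization.Away f))) n x)
    rw [← hb, Ideal.quotientMap_mk, Ideal.quotientMap_mk, Ideal.quotientMap_mk, ← lift_comp A 𝔭 f g hf hfg]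
    rfl
  · rw [evalOne_eq, evalOne_eq, evalₐ_complMap]
    obtain ⟨b, hb⟩ := Ideal.Quotient.mk_surjective
      (AdicCompletion.evalₐ (J.map (algebraMap A (Localization.Away f))) 1 x)
    rw [← hb]
    simp

theorem exists_left (f g : A) (hf : g ∉ 𝔭) (hfg : f * g ∉ 𝔭) (x : FSch.cAway A J g) :
    ∃ x' : FSch.cAway A J (f * g), FSch.cAwayToAtPrime A J 𝔭 (f * g) hfg x' = FSch.cAwayToAtPrime A J 𝔭 g hf x := by
  have hle : (J.map (algebraMap A (Localization.Away g))).map (IsLocalization.Away.awayToAwayLeft g f) ≤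
      J.map (algebraMap A (Localization.Away (f * g))) := le_of_eq (by
    rw [Ideal.map_map]; congr 1; ext a; simp [IsLocalization.Away.awayToAwayLeft_eq])
  refine ⟨FSch.complMap _ _ _ hle x, AdicCompletion.ext_evalₐ fun n => ?_⟩
  simp only [FSch.cAwayToAtPrime, evalₐ_complMap]
  obtain ⟨b, hb⟩ := Ideal.Quotient.mk_surjective
    (AdicCompletion.evalₐ (J.map (algebraMap A (Localization.Away g))) n x)
  have hcomp : (FSch.awayToAtPrime A 𝔭 (f * g) hfg).comp (IsLocalization.Away.awayToAwayLeft g f) =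
      FSch.awayToAtPrime A 𝔭 g hf := by
    refine IsLocalization.ringHom_ext (Submonoid.powers g) (RingHom.ext fun a => ?_)
    simp [FSch.awayToAtPrime, IsLocalization.Away.awayToAwayLeft_eq]
  rw [← hb, Ideal.quotientMap_mk, Ideal.quotientMap_mk, Ideal.quotientMap_mk, ← hcomp]
  rfl

theorem mem_stalkSubring_iff (x : FSch.cAtPrime A J 𝔭) :
    x ∈ FSch.stalkSubring A J 𝔭 ↔ ∃ (f : A) (hf : f ∉ 𝔭) (z : FSch.cAway A J f),
      FSch.cAwayToAtPrime A J 𝔭 f hf z = x := by
  haveI : Nonempty {f : A // f ∉ 𝔭} := ⟨⟨1, fun h => ‹𝔭.IsPrime›.ne_top ((Ideal.eq_top_iff_one _).2 h)⟩⟩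
  rw [FSch.stalkSubring, Subring.mem_iSup_of_directed]
  · exact ⟨fun ⟨⟨f, hf⟩, z, hz⟩ => ⟨f, hf, z, hz⟩, fun ⟨f, hf, z, hz⟩ => ⟨⟨f, hf⟩, z, hz⟩⟩
  · intro f g
    have hfg : f.1 * g.1 ∉ 𝔭 := fun h => (‹𝔭.IsPrime›.mem_or_mem h).elim f.2 g.2
    refine ⟨⟨f.1 * g.1, hfg⟩, ?_, ?_⟩
    · rintro _ ⟨z, rfl⟩
      obtain ⟨z', hz', -⟩ := exists_right A J 𝔭 f.1 g.1 f.2 hfg z
      exact ⟨z', hz'⟩
    · rintro _ ⟨z, rfl⟩
      obtain ⟨z', hz'⟩ := exists_left A J 𝔭 f.1 g.1 g.2 hfg z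
      exact ⟨z', hz'⟩

theorem isLocalHom_subtype (hJ : J ≤ 𝔭) : IsLocalHom (FSch.stalkSubring A J 𝔭).subtype := by
  refine ⟨fun t ht => ?_⟩
  obtain ⟨f, hf, z, hz⟩ := (mem_stalkSubring_iff A J 𝔭 t.1).1 t.2
  obtain ⟨w, hw⟩ := Ideal.Quotient.mk_surjective (AdicCompletion.evalOneₐ (J.map (algebraMap A (Localization.Away f))) z)
  obtain ⟨⟨a, ⟨_, k, rfl⟩⟩, hak⟩ := IsLocalization.surj (Submonoid.powers f) w
  dsimp only at hak
  have hu : IsUnit (FSch.awayToAtPrime A 𝔭 f hf w) := by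
    refine (isUnit_evalOne_iff_atPrime A J 𝔭 hJ t.1).1 ht _ ?_
    rw [← hz, FSch.cAwayToAtPrime, evalOne_eq, evalₐ_complMap]
    obtain ⟨b, hb⟩ := Ideal.Quotient.mk_surjective
      (AdicCompletion.evalₐ (J.map (algebraMap A (Localization.Away f))) 1 z)
    rw [evalOne_eq, ← hb, Ideal.Quotient.factor_mk, Ideal.Quotient.eq] at hw
    rw [← hb, Ideal.quotientMap_mk, Ideal.Quotient.factor_mk, Ideal.Quotient.eq, ← map_sub]
    exact FSch.map_awayToAtPrime_le A J 𝔭 f hf (Ideal.mem_map_of_mem _ hw)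
  have ha : a ∉ 𝔭 := by
    have h1 := congrArg (FSch.awayToAtPrime A 𝔭 f hf) hak
    rw [map_mul] at h1
    have e : ∀ c : A, FSch.awayToAtPrime A 𝔭 f hf (algebraMap A _ c) = algebraMap A (Localization.AtPrime 𝔭) c :=
      fun c => IsLocalization.Away.lift_eq f _ c
    rw [e, e] at h1
    have h2 : IsUnit (algebraMap A (Localization.AtPrime 𝔭) a) := h1 ▸ hu.mul
      (IsLocalization.map_units (Localization.AtPrime 𝔭) (⟨f ^ k, 𝔭.primeCompl.pow_mem hf k⟩ : 𝔭.primeCompl))
    exact (IsLocalization.AtPrime.isUnit_to_map_iff (Localization.AtPrime 𝔭) 𝔭 a).1 h2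
  have hfa : f * a ∉ 𝔭 := fun h => (‹𝔭.IsPrime›.mem_or_mem h).elim hf ha
  obtain ⟨z', hz', hz'1⟩ := exists_right A J 𝔭 f a hf hfa z
  have hw' : IsUnit (IsLocalization.Away.awayToAwayRight (P := Localization.Away (f * a)) f a w) := by
    have h1 := congrArg (IsLocalization.Away.awayToAwayRight (P := Localization.Away (f * a)) f a) hak
    rw [map_mul] at h1
    have h2 : IsUnit (IsLocalization.Away.awayToAwayRight (P := Localization.Away (f * a)) f a
        (algebraMap A (Localization.Away f) a)) := by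
      rw [IsLocalization.Away.awayToAwayRight_eq]
      exact isUnit_of_dvd_unit (map_dvd _ (dvd_mul_left a f)) (IsLocalization.Away.algebraMap_isUnit (f * a))
    rw [← h1] at h2
    exact isUnit_of_mul_isUnit_left h2
  have hz'u : IsUnit z' := by
    refine isUnit_of_isUnit_evalOne _ _ ?_
    rw [hz'1, ← hw, Ideal.quotientMap_mk]
    exact hw'.map _
  obtain ⟨y, hy⟩ := hz'u.exists_right_inv
  refine IsUnit.of_mul_eq_one ⟨FSch.cAwayToAtPrime A J 𝔭 (f * a) hfa y,
    (mem_stalkSubring_iff A J 𝔭 _).2 ⟨_, hfa, y, rfl⟩⟩ (Subtype.ext ?_)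
  show t.1 * _ = 1
  rw [← hz, ← hz', ← map_mul, hy, map_one]

end Groth.Agent.FSchLib
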